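import Mathlib.FieldTheory.IsSepClosed
import Mathlib.FieldTheory.IsAlgClosed.AlgebraicClosure
import Mathlib.RingTheory.Henselian
import Mathlib.RingTheory.IntegralClosure.IntegrallyClosed
import Mathlib.RingTheory.LocalRing.ResidueField.Basic
import Mathlib.Algebra.Polynomial.Lifts
import Mathlib.RingTheory.Polynomial.IntegralNormalization
import Mathlib.RingTheory.Ideal.GoingUp

/-!
# Normal domains with separably closed fraction field
-/

set_option autoImplicit false
universe u v

open Polynomial IsLocalRing

namespace SepClNormalLib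

variable {R : Type u} [CommRing R] [IsDomain R] [IsIntegrallyClosed R] (K : Type v) [Field K] [Algebra R K]
  [IsFractionRing R K] [IsSepClosed K]

/-- A simple root in an extension of `K` of a monic polynomial over `R` lies in `R`. -/
theorem exists_eq_of_simple_root {L : Type v} [Field L] [Algebra K L] [Algebra R L] [IsScalarTower R K L]
    {f : R[X]} (hf : f.Monic) {α : L} (h0 : aeval α f = 0) (h1 : aeval α f.derivative ≠ 0) :
    ∃ a : R, algebraMap R L a = α := by
  have hint : IsIntegral R α := ⟨f, hf, h0⟩
  have hintK : IsIntegral K α := hint.tower_top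
  obtain ⟨q, hq⟩ : minpoly K α ∣ f.map (algebraMap R K) := minpoly.dvd K α (by rw [aeval_map_algebraMap, h0])
  have hd : aeval α (minpoly K α).derivative ≠ 0 := by
    intro h
    apply h1
    rw [← aeval_map_algebraMap K, ← derivative_map, hq, derivative_mul, map_add, map_mul, map_mul, h,
      minpoly.aeval, zero_mul, zero_mul, add_zero]
  have hsep : (minpoly K α).Separable :=
    (Polynomial.separable_iff_derivative_ne_zero (minpoly.irreducible hintK)).2 (fun h => hd (by rw [h, map_zero]))
  obtain ⟨x, hx⟩ := minpoly.mem_range_of_degree_eq_one K α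
    (IsSepClosed.degree_eq_one_of_irreducible K (minpoly.irreducible hintK) hsep)
  have hintx : IsIntegral R x := by
    rw [← isIntegral_algebraMap_iff (algebraMap K L).injective, hx]
    exact hint
  obtain ⟨a, ha⟩ := IsIntegrallyClosed.isIntegral_iff.1 hintx
  exact ⟨a, by rw [IsScalarTower.algebraMap_apply R K L, ha, hx]⟩

include K in
theorem henselian [IsLocalRing R] : HenselianLocalRing R where
  is_henselian f hf a₀ h0 h1 := by
    let L := AlgebraicClosure K
    let S := integralClosure R L
    have hinj : Function.Injective (algebraMap R S) := fun a b h =>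
      (IsFractionRing.injective R K) ((algebraMap K L).injective (by
        rw [← IsScalarTower.algebraMap_apply R K L, ← IsScalarTower.algebraMap_apply R K L]
        exact congrArg Subtype.val h))
    obtain ⟨Q, -, hQp, hQ⟩ := Ideal.exists_ideal_over_prime_of_isIntegral (maximalIdeal R) (⊥ : Ideal S) (by
      intro x hx
      rw [Ideal.mem_comap, Ideal.mem_bot] at hx
      rw [(injective_iff_map_eq_zero _).1 hinj x hx]
      exact zero_mem _)
    have hspl := (IsAlgClosed.splits (f.map (algebraMap R L))).eq_prod_roots_of_monic (hf.map _)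
    classical
    let g : L → S[X] := fun r => if h : IsIntegral R r then X - C (⟨r, h⟩ : S) else 1
    have hroot : ∀ r ∈ (f.map (algebraMap R L)).roots, IsIntegral R r := fun r hr => by
      rw [mem_roots (hf.map _).ne_zero, IsRoot.def, eval_map] at hr
      exact ⟨f, hf, hr⟩
    have hS : f.map (algebraMap R S) = ((f.map (algebraMap R L)).roots.map g).prod := by
      apply map_injective (algebraMap S L) (fun a b h => Subtype.ext h)
      rw [map_map, ← IsScalarTower.algebraMap_eq, Polynomial.map_multiset_prod, Multiset.map_map]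
      conv_lhs => rw [hspl]
      refine congrArg Multiset.prod (Multiset.map_congr rfl fun r hr => ?_)
      simp only [Function.comp_apply, g, dif_pos (hroot r hr), Polynomial.map_sub, map_X, map_C]
      rfl
    have hmem : eval (algebraMap R S a₀) (f.map (algebraMap R S)) ∈ Q := by
      rw [eval_map, eval₂_at_apply]
      exact hQ.symm.le h0
    rw [hS, eval_multiset_prod, Multiset.map_map, hQp.multiset_prod_mem_iff_exists_mem] at hmem
    obtain ⟨r, hr', hrQ⟩ := hmem
    obtain ⟨α, hα, rfl⟩ := Multiset.mem_map.1 hr'
    have hαi := hroot α hα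
    simp only [Function.comp_apply, g, dif_pos hαi, eval_sub, eval_X, eval_C] at hrQ
    have hfα : aeval α f = 0 := by
      have := (mem_roots (hf.map _).ne_zero).1 hα
      rwa [IsRoot.def, eval_map] at this
    have hd : aeval α f.derivative ≠ 0 := by
      intro h
      have h2 : algebraMap R S (f.derivative.eval a₀) ∈ Q := by
        obtain ⟨w, hw⟩ := Polynomial.sub_dvd_eval_sub (algebraMap R S a₀) (⟨α, hαi⟩ : S) (f.derivative.map (algebraMap R S))
        have h3 : eval (⟨α, hαi⟩ : S) (f.derivative.map (algebraMap R S)) = 0 := by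
          apply Subtype.ext
          rw [eval_map, ← aeval_def]
          rw [show ((0 : S) : L) = 0 from rfl, ← h]
          exact (aeval_algHom_apply (S.val) (⟨α, hαi⟩ : S) f.derivative).symm
        rw [h3, sub_zero, eval_map, eval₂_at_apply] at hw
        rw [hw]
        exact Q.mul_mem_right w hrQ
      exact (mem_maximalIdeal _).1 (hQ.le h2) h1
    obtain ⟨a, ha⟩ := exists_eq_of_simple_root K hf hfα hd
    refine ⟨a, ?_, ?_⟩
    · apply IsFractionRing.injective R K
      apply (algebraMap K L).injective
      rw [map_zero, map_zero, ← IsScalarTower.algebraMap_apply R K L, ← aeval_algebraMap_apply_eq_algebraMap_eval, ha, hfα]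
    · rw [← hQ, Ideal.mem_comap]
      rw [map_sub]
      have : algebraMap R S a = ⟨α, hαi⟩ := Subtype.ext ha
      rw [this, ← neg_sub]
      exact Q.neg_mem hrQ

include K in
theorem isAlgClosed_residueField [IsLocalRing R] (hR : maximalIdeal R ≠ ⊥) :
    IsAlgClosed (ResidueField R) := by
  classical
  refine IsAlgClosed.of_exists_root _ fun f hf hirr => ?_
  obtain h1 | hdeg : f.natDegree = 1 ∨ 2 ≤ f.natDegree := by
    have := hirr.natDegree_pos
    omega
  · refine ⟨-f.coeff 0, ?_⟩
    rw [hf.eq_X_add_C h1, eval_add, eval_X, eval_C, coeff_add, coeff_X_zero, coeff_C_zero, zero_add]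
    exact neg_add_cancel _
  obtain ⟨F, hFmap, hFdeg, hFmon⟩ := lifts_and_natDegree_eq_and_monic
    (p := f) (f := residue R) ((lifts_iff_coeff_lifts f).2 fun n => residue_surjective _) hf
  obtain ⟨c₀, hc₀, hc₀0⟩ := Submodule.exists_mem_ne_zero_of_ne_bot hR
  have hpow : Function.Injective fun k : ℕ => c₀ ^ (k + 1) := fun a b h => by
    have hnu : ¬ IsUnit c₀ := (mem_maximalIdeal _).1 hc₀
    exact Nat.succ_injective (pow_injective_of_not_isUnit hnu hc₀0 h)
  obtain ⟨c, hc, hFc⟩ : ∃ c ∈ maximalIdeal R, F.derivative + C c ≠ 0 := by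
    by_contra hc
    push_neg at hc
    have h2 := (hc _ hc₀).trans (hc (c₀ ^ (1 + 1)) (Ideal.pow_mem_of_mem _ hc₀ _ two_pos)).symm
    exact absurd (hpow (a₁ := 0) (a₂ := 1) (by simpa using C_injective (add_left_cancel h2))) zero_ne_one
  let L := AlgebraicClosure K
  have hinj : Function.Injective (algebraMap R L) := by
    rw [IsScalarTower.algebraMap_eq R K L]
    exact (algebraMap K L).injective.comp (IsFractionRing.injective R K)
  haveI : FaithfulSMul R L := (faithfulSMul_iff_algebraMap_injective R L).2 hinj
  let bad : Finset L := (((F.derivative + C c).map (algebraMap R L)).roots.toFinset).image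
    fun r => -(aeval r (F + C c * X))
  obtain ⟨d, hd, hbad⟩ : ∃ d ∈ maximalIdeal R, algebraMap R L d ∉ bad := by
    by_contra h
    push_neg at h
    have : Set.Finite (Set.range fun k : ℕ => algebraMap R L (c₀ ^ (k + 1))) :=
      bad.finite_toSet.subset (Set.range_subset_iff.2 fun k => h _ (Ideal.pow_mem_of_mem _ hc₀ _ k.succ_pos))
    exact Set.infinite_range_of_injective (hinj.comp hpow) this
  have hlow : (C c * X + C d).degree < F.degree := by
    rw [degree_eq_natDegree hFmon.ne_zero, hFdeg]
    exact lt_of_le_of_lt degree_linear_le (by exact_mod_cast hdeg)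
  have hG : (F + (C c * X + C d)).Monic := hFmon.add_of_left hlow
  obtain ⟨α, hα⟩ := IsAlgClosed.exists_aeval_eq_zero L (F + (C c * X + C d)) (by
    rw [degree_add_eq_left_of_degree_lt hlow, degree_eq_natDegree hFmon.ne_zero, hFdeg]
    exact_mod_cast (show f.natDegree ≠ 0 by omega))
  have hd' : aeval α (F + (C c * X + C d)).derivative ≠ 0 := by
    intro h
    apply hbad
    refine Finset.mem_image.2 ⟨α, ?_, ?_⟩
    · rw [Multiset.mem_toFinset, mem_roots ((Polynomial.map_ne_zero_iff hinj).2 hFc), IsRoot.def, eval_map,
        ← aeval_def]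
      simpa [derivative_add, derivative_mul] using h
    · rw [← add_assoc, map_add, aeval_C] at hα
      exact neg_eq_of_add_eq_zero_right hα
  obtain ⟨a, rfl⟩ := exists_eq_of_simple_root K hG hα hd'
  refine ⟨residue R a, ?_⟩
  have h2 : (F + (C c * X + C d)).eval a = 0 :=
    hinj (by rw [map_zero, ← aeval_algebraMap_apply_eq_algebraMap_eval, hα])
  have h3 := congrArg (residue R) h2
  rw [← eval₂_at_apply, ← eval_map, Polynomial.map_add, Polynomial.map_add, Polynomial.map_mul, map_C, map_C, map_X,
    (residue_eq_zero_iff c).2 hc, (residue_eq_zero_iff d).2 hd, map_zero, zero_mul, add_zero, add_zero, hFmap,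
    map_zero] at h3
  exact h3

end SepClNormalLib
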